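import Mathlib

/-!
# The classes of `A5` (helper748)
-/

set_option autoImplicit false

namespace Cfsg.Agent.H748.Conv.AFive

abbrev A := alternatingGroup (Fin 5)

set_option maxRecDepth 100000 in
theorem orders : ∀ a : A, a ^ 2 = 1 ∨ a ^ 3 = 1 ∨ a ^ 5 = 1 := by decide +kernel

set_option maxRecDepth 100000 in
theorem two : ∀ a : A, a ≠ 1 → a ^ 2 = 1 → ∀ b : A, b ≠ 1 → b ^ 2 = 1 → ∃ g : A, g * a * g⁻¹ = b := by
  decide +kernel

set_option maxRecDepth 100000 in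
theorem three : ∀ a : A, a ≠ 1 → a ^ 3 = 1 → ∀ b : A, b ≠ 1 → b ^ 3 = 1 → ∃ g : A, g * a * g⁻¹ = b := by
  decide +kernel

set_option maxRecDepth 100000 in
theorem five : ∀ a : A, a ≠ 1 → a ^ 5 = 1 → ∀ b : A, b ≠ 1 → b ^ 5 = 1 →
    ∃ g : A, g * a * g⁻¹ = b ∨ g * a * g⁻¹ = b ^ 2 := by
  decide +kernel

end Cfsg.Agent.H748.Conv.AFive
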