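import Cfsg.Agent.H424.SmallIso
import Cfsg.Agent.H424.GroupTools
import Cfsg.Agent.H584.NC.StepB
import Cfsg.Agent.S0494

/-!
# Converse for S3500: primitive groups, generalities (helper748)
-/

set_option autoImplicit false
set_option linter.unusedSectionVars false

namespace Cfsg.Agent.H748.Conv

open Subgroup MulAction

section

variable {G : Type*} [Group G] [Finite G] {Ω : Type*} [Finite Ω] [MulAction G Ω] [FaithfulSMul G Ω]

omit [Finite G] [Finite Ω] in
theorem trans_of_normal (hprim : IsPreprimitive G Ω) (N : Subgroup G) [N.Normal] (hN : N ≠ ⊥) :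
    IsPretransitive N Ω := by
  apply IsQuasiPreprimitive.isPretransitive_of_normal (G := G)
  intro h
  apply hN
  rw [eq_bot_iff]
  intro n hn
  rw [mem_bot]
  apply FaithfulSMul.eq_of_smul_eq_smul (α := Ω)
  intro ω
  have h1 : ω ∈ fixedPoints N Ω := by rw [h]; exact Set.mem_univ _
  rw [one_smul]
  exact h1 ⟨n, hn⟩

omit [Finite Ω] in
theorem card_dvd (hprim : IsPreprimitive G Ω) (N : Subgroup G) [N.Normal] (hN : N ≠ ⊥) :
    Nat.card Ω ∣ Nat.card N := by
  have h1 := trans_of_normal hprim N hN
  rcases isEmpty_or_nonempty Ω with h | ⟨⟨ω⟩⟩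
  · exfalso
    apply hN
    rw [eq_bot_iff]
    intro n hn
    rw [mem_bot]
    apply FaithfulSMul.eq_of_smul_eq_smul (α := Ω)
    intro ω
    exact h.elim ω
  · rw [← MulAction.index_stabilizer_of_transitive N ω]
    exact (stabilizer N ω).index_dvd_card

theorem exists_simple [Nonempty Ω] (hprim : IsPreprimitive G Ω) (h : ∀ p k : ℕ, p.Prime → ¬ Nat.card Ω ∣ p ^ k)
    (hlt : Nat.card G < 6241) (h3600 : ¬ 3600 ∣ Nat.card G) :
    ∃ T : Subgroup G, T.Normal ∧ IsSimpleGroup T ∧ ¬ IsMulCommutative T := by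
  have h1 : ∀ R : Subgroup G, R.Normal → Group.IsSolvable R → R = ⊥ := by
    intro R hR hs
    by_contra hne
    obtain ⟨N, hN1, hN2, hN3, hN4⟩ := H584.NC.exists_minimal_normal R hR hne
    have hs' : Group.IsSolvable N :=
      solvable_of_solvable_injective (f := Subgroup.inclusion hN2) (Subgroup.inclusion_injective _)
    obtain ⟨p, hp, hpN⟩ := H584.NC.minimal_of_solvable N hN1 hN3 hN4 hs'
    have : Fact p.Prime := ⟨hp⟩
    obtain ⟨k, hk⟩ := IsPGroup.iff_card.1 hpN
    apply h p k hp
    rw [← hk]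
    exact card_dvd hprim N hN3
  have hns : ¬ Group.IsSolvable G := by
    intro hs
    have h2 : Group.IsSolvable (⊤ : Subgroup G) := inferInstance
    have h3 := h1 ⊤ inferInstance h2
    apply h 2 0 Nat.prime_two
    have h4 : Subsingleton G := by
      rw [← Subgroup.subsingleton_iff, ← subsingleton_iff_bot_eq_top]
      exact h3.symm
    have h5 := hprim.toIsPretransitive
    obtain ⟨ω⟩ : Nonempty Ω := inferInstance
    rw [← MulAction.index_stabilizer_of_transitive G ω, pow_zero]
    have h6 := (stabilizer G ω).index_dvd_card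
    rwa [Nat.card_of_subsingleton (1 : G)] at h6
  obtain ⟨R, hRn, hRs, -, T, hT1, hT2, hT3⟩ := H424.GroupTools.exists_reduction hns hlt h3600
  have hR := h1 R hRn hRs
  subst hR
  let e : G ⧸ (⊥ : Subgroup G) ≃* G := QuotientGroup.quotientBot
  let f : T ≃* (T.map e.toMonoidHom : Subgroup G) := T.equivMapOfInjective _ e.injective
  refine ⟨T.map e.toMonoidHom, hT1.map _ e.surjective, f.symm.isSimpleGroup, ?_⟩
  intro hc
  apply hT3
  constructor
  constructor
  intro a b
  apply f.injective
  rw [map_mul, map_mul]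
  exact hc.is_comm.comm _ _

end

end Cfsg.Agent.H748.Conv
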