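import Mathlib

/-!
# Counting elements of prime order (helper748)
-/

set_option autoImplicit false

namespace Cfsg.Agent.H748.Conv

open Subgroup MulAction

section

variable {G : Type*} [Group G] [Finite G]

omit [Finite G] in
theorem card_class (x : G) :
    Nat.card {y : G // IsConj x y} * Nat.card (centralizer ({x} : Set G)) = Nat.card G := by
  let F : G ⧸ centralizer ({x} : Set G) → {y : G // IsConj x y} :=
    Quotient.lift (s := QuotientGroup.leftRel _)
      (fun g => (⟨g * x * g⁻¹, isConj_iff.2 ⟨g, rfl⟩⟩ : {y : G // IsConj x y})) (by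
        intro a b hab
        have h1 : a⁻¹ * b ∈ centralizer ({x} : Set G) := QuotientGroup.leftRel_apply.1 hab
        rw [mem_centralizer_singleton_iff] at h1
        apply Subtype.ext
        change a * x * a⁻¹ = b * x * b⁻¹
        have h2 : b = a * (a⁻¹ * b) := by group
        calc a * x * a⁻¹ = a * (x * (a⁻¹ * b)) * b⁻¹ := by group
          _ = a * ((a⁻¹ * b) * x) * b⁻¹ := by rw [h1]
          _ = b * x * b⁻¹ := by group)
  have hF : Function.Bijective F := by
    constructor
    · intro a b
      induction a using QuotientGroup.induction_on with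
      | H a =>
        induction b using QuotientGroup.induction_on with
        | H b =>
          intro h
          have h1 : a * x * a⁻¹ = b * x * b⁻¹ := congrArg Subtype.val h
          rw [QuotientGroup.eq, mem_centralizer_singleton_iff]
          calc a⁻¹ * b * x = a⁻¹ * (b * x * b⁻¹) * b := by group
            _ = a⁻¹ * (a * x * a⁻¹) * b := by rw [h1]
            _ = x * (a⁻¹ * b) := by group
    · rintro ⟨y, hy⟩
      obtain ⟨g, hg⟩ := isConj_iff.1 hy
      exact ⟨QuotientGroup.mk g, Subtype.ext hg⟩
  rw [← Nat.card_congr (Equiv.ofBijective F hF)]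
  exact (centralizer ({x} : Set G)).index_mul_card

theorem card_order_le {p m : ℕ} [hp : Fact p.Prime] (hm : ∀ P : Sylow p G, Nat.card P = m) :
    Nat.card {u : G // orderOf u = p} ≤ Nat.card (Sylow p G) * (m - 1) := by
  classical
  have hex : ∀ u : {u : G // orderOf u = p}, ∃ P : Sylow p G, (u : G) ∈ (P : Subgroup G) := by
    intro u
    have h1 : IsPGroup p (zpowers (u : G)) :=
      IsPGroup.of_card (n := 1) (by rw [Nat.card_zpowers, u.2, pow_one])
    obtain ⟨P, hP⟩ := h1.exists_le_sylow
    exact ⟨P, hP (mem_zpowers _)⟩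
  choose P hP using hex
  have h1 : Nat.card {u : G // orderOf u = p} ≤
      Nat.card (Σ P : Sylow p G, {x : (P : Subgroup G) // x ≠ 1}) := by
    refine Nat.card_le_card_of_injective (fun u => ⟨P u, ⟨⟨u, hP u⟩, ?_⟩⟩) ?_
    · intro h
      have h2 : (u : G) = 1 := congrArg Subtype.val h
      have h3 := u.2
      rw [h2, orderOf_one] at h3
      exact hp.out.one_lt.ne h3
    · intro u v huv
      have h2 := congrArg (fun s : (Σ P : Sylow p G, {x : (P : Subgroup G) // x ≠ 1}) => ((s.2.1 : (s.1 : Subgroup G)) : G)) huv
      exact Subtype.ext h2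
  refine h1.trans (le_of_eq ?_)
  have h2 : ∀ P : Sylow p G, Nat.card {x : (P : Subgroup G) // x ≠ 1} = m - 1 := by
    intro P
    have h5 : Nat.card {x : (P : Subgroup G) // x ≠ 1} + 1 = Nat.card (P : Subgroup G) := by
      rw [← Finite.card_option]
      exact Nat.card_congr (Equiv.optionSubtypeNe _)
    have h6 : Nat.card (P : Subgroup G) = m := hm P
    omega
  have := Fintype.ofFinite (Sylow p G)
  rw [Nat.card_sigma]
  simp_rw [h2]
  rw [Finset.sum_const, Finset.card_univ, Nat.card_eq_fintype_card, smul_eq_mul]

theorem isConj_of_card {p : ℕ} {t : G} (ht : orderOf t = p)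
    (h : Nat.card {u : G // orderOf u = p} * Nat.card (centralizer ({t} : Set G)) ≤ Nat.card G)
    {u : G} (hu : orderOf u = p) : IsConj t u := by
  classical
  have h1 := card_class t
  have h2 : 0 < Nat.card (centralizer ({t} : Set G)) := Nat.card_pos
  have h3 : Nat.card {u : G // orderOf u = p} ≤ Nat.card {y : G // IsConj t y} := by
    rw [← h1] at h
    exact Nat.le_of_mul_le_mul_right h h2
  let F : {y : G // IsConj t y} → {u : G // orderOf u = p} := fun y => ⟨y.1, by
    obtain ⟨g, hg⟩ := isConj_iff.1 y.2
    rw [← hg, ← ht]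
    exact MulEquiv.orderOf_eq (MulAut.conj g) t⟩
  have hF : Function.Injective F := fun a b hab =>
    Subtype.ext (congrArg (fun z : {u : G // orderOf u = p} => (z : G)) hab)
  have hb : Function.Bijective F := (Nat.bijective_iff_injective_and_card F).2
    ⟨hF, le_antisymm (Nat.card_le_card_of_injective F hF) h3⟩
  obtain ⟨y, hy⟩ := hb.2 ⟨u, hu⟩
  have h4 : y.1 = u := congrArg Subtype.val hy
  rw [← h4]
  exact y.2

end

end Cfsg.Agent.H748.Conv
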