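import Cfsg.Agent.H748.Conv.GBig

/-!
# Derangements of groups of order 1512 on 28 points (helper748)
-/

set_option autoImplicit false

namespace Cfsg.Agent.H748.Conv

open Subgroup MulAction Cfsg.Agent.SmallSimple

section

theorem fix_of_conj {G : Type*} [Group G] {Ω : Type*} [MulAction G Ω] {ω : Ω} {g k : G}
    (h : k * g * k⁻¹ ∈ stabilizer G ω) : ∃ ω' : Ω, g • ω' = ω' := by
  refine ⟨k⁻¹ • ω, ?_⟩
  have h1 : (k * g * k⁻¹) • ω = ω := h
  rw [mul_smul, mul_smul] at h1
  have h2 := congrArg (fun z => k⁻¹ • z) h1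
  simpa using h2

variable {G : Type*} [Group G] [Finite G] {T : Subgroup G} [T.Normal] [IsSimpleGroup T]
  {Ω : Type*} [MulAction G Ω]

theorem orderOf_der (hG : Nat.card G = 1512) (hT : Nat.card T = 504)
    (hC : centralizer (T : Set G) = ⊥) {ω : Ω} (hω : Nat.card (stabilizer G ω) = 54) {g : G}
    (hg : ∀ ω : Ω, g • ω ≠ ω) : orderOf g = 7 := by
  have f2 : Fact (Nat.Prime 2) := ⟨by norm_num⟩
  have f3 : Fact (Nat.Prime 3) := ⟨by norm_num⟩
  by_cases h7 : 7 ∣ orderOf g
  · exact orderOf_of_seven hG hT hC h7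
  exfalso
  set H := stabilizer G ω with hHdef
  have hno : ∀ k : G, k * g * k⁻¹ ∉ H := by
    intro k hk
    obtain ⟨ω', hω'⟩ := fix_of_conj hk
    exact hg ω' hω'
  have ho : orderOf g ∣ 1512 := by rw [← hG]; exact orderOf_dvd_natCard g
  have h216 : orderOf g ∣ 216 := by
    have h1 : Nat.Coprime (orderOf g) 7 := ((Nat.Prime.coprime_iff_not_dvd (by norm_num)).2 h7).symm
    exact h1.dvd_of_dvd_mul_left (by rw [show 7 * 216 = 1512 by norm_num]; exact ho)
  have h4 : ¬ 4 ∣ orderOf g := fun h => not_four hG hT h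
  by_cases h2 : 2 ∣ orderOf g
  · -- even order
    obtain ⟨m, hm⟩ := h2
    have h0 : 0 < orderOf g := orderOf_pos g
    have hm0 : m ≠ 0 := by rintro rfl; omega
    have hm2 : ¬ 2 ∣ m := by
      rintro ⟨j, rfl⟩
      exact h4 ⟨j, by rw [hm]; ring⟩
    have hu : orderOf (g ^ m) = 2 := by
      rw [orderOf_pow_of_dvd hm0 ⟨2, by rw [hm]; ring⟩, hm]
      exact Nat.mul_div_cancel _ (Nat.pos_of_ne_zero hm0)
    have h24 : orderOf g ∣ 24 := by
      rw [← card_cent_two hG hT hu]
      have h2 : g ∈ centralizer ({g ^ m} : Set G) := by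
        rw [mem_centralizer_singleton_iff, ← pow_succ, ← pow_succ']
      exact Subgroup.orderOf_dvd_natCard _ h2
    have h6 : orderOf g = 2 ∨ orderOf g = 6 := by
      have h5 : m ∣ 12 := Nat.dvd_of_mul_dvd_mul_left (k := 2) (by norm_num) (by rw [← hm]; exact h24)
      have h7 : m ≤ 12 := Nat.le_of_dvd (by norm_num) h5
      interval_cases m <;> omega
    obtain ⟨u, huH, s, hsH, hu2, hs3, hus⟩ := exists_three hG hT H hω
    rcases h6 with h6 | h6
    · obtain ⟨k, hk⟩ := isConj_iff.1 (conj_two hG hT h6 hu2)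
      exact hno k (by rw [hk]; exact huH)
    · -- order six
      have hm3 : m = 3 := by omega
      subst hm3
      obtain ⟨k, hk⟩ := isConj_iff.1 (conj_two hG hT hu hu2)
      have hs' : orderOf (k * g ^ 4 * k⁻¹) = 3 := by
        have h8 : orderOf (g ^ 4) = 3 := by rw [orderOf_pow, h6]; norm_num
        rw [← h8]
        exact MulEquiv.orderOf_eq (MulAut.conj k) (g ^ 4)
      have hc' : k * g ^ 4 * k⁻¹ ∈ centralizer ({u} : Set G) := by
        rw [mem_centralizer_singleton_iff, ← hk]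
        group
      have hcs : s ∈ centralizer ({u} : Set G) := by
        rw [mem_centralizer_singleton_iff]; exact hus.symm
      -- Sylow in the centralizer
      have h24' := card_cent_two hG hT hu2
      have hP : ∀ w : centralizer ({u} : Set G), orderOf w = 3 →
          ∃ P : Sylow 3 (centralizer ({u} : Set G)), (P : Subgroup (centralizer ({u} : Set G))) = zpowers w := by
        intro w hw
        have h9 : IsPGroup 3 (zpowers w) := IsPGroup.of_card (n := 1) (by rw [Nat.card_zpowers, hw, pow_one])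
        obtain ⟨P, hP⟩ := h9.exists_le_sylow
        refine ⟨P, (Subgroup.eq_of_le_of_card_ge hP ?_).symm⟩
        have h10 : Nat.card (centralizer ({u} : Set G)) = 8 * 3 ^ 1 := by rw [h24']; norm_num
        have h11 := PSqQR.card_sylow_of_card_eq h10 (by norm_num) P
        rw [Nat.card_zpowers, hw]
        exact le_of_eq (by rw [pow_one] at h11; exact h11)
      obtain ⟨P1, hP1⟩ := hP ⟨_, hc'⟩ (by rw [Subgroup.orderOf_mk]; exact hs')
      obtain ⟨P2, hP2⟩ := hP ⟨s, hcs⟩ (by rw [Subgroup.orderOf_mk]; exact hs3)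
      obtain ⟨c, hc⟩ := MulAction.exists_smul_eq (centralizer ({u} : Set G)) P1 P2
      have h9 : c * ⟨k * g ^ 4 * k⁻¹, hc'⟩ * c⁻¹ ∈ (P2 : Subgroup (centralizer ({u} : Set G))) := by
        rw [← hc]
        refine ⟨⟨k * g ^ 4 * k⁻¹, hc'⟩, ?_, rfl⟩
        rw [hP1]
        exact mem_zpowers _
      rw [hP2] at h9
      obtain ⟨i, hi⟩ := mem_zpowers_iff.1 h9
      have h10 : (c : G) * (k * g ^ 4 * k⁻¹) * (c : G)⁻¹ = s ^ i := (congrArg Subtype.val hi).symm
      have hcu : (c : G) * u = u * c := mem_centralizer_singleton_iff.1 c.2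
      apply hno ((c : G) * k)
      have h11 : (c : G) * k * g * ((c : G) * k)⁻¹ = u * s ^ i := by
        have h12 : g = g ^ 3 * g ^ 4 := by
          rw [← pow_add, show 3 + 4 = 6 + 1 by norm_num, pow_add, pow_one, ← h6, pow_orderOf_eq_one, one_mul]
        calc (c : G) * k * g * ((c : G) * k)⁻¹ = (c : G) * k * (g ^ 3 * g ^ 4) * ((c : G) * k)⁻¹ := by rw [← h12]
          _ = ((c : G) * (k * g ^ 3 * k⁻¹)) * (c : G)⁻¹ * ((c : G) * (k * g ^ 4 * k⁻¹) * (c : G)⁻¹) := by group
          _ = u * s ^ i := by rw [hk, h10, hcu, mul_inv_cancel_right]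
      rw [h11]
      exact H.mul_mem huH (H.zpow_mem hsH i)
  · -- 3-elements
    have h27 : orderOf g ∣ 3 ^ 3 := by
      have h1 : Nat.Coprime (orderOf g) (2 ^ 3) :=
        Nat.Coprime.pow_right 3 ((Nat.Prime.coprime_iff_not_dvd Nat.prime_two).2 h2).symm
      exact h1.dvd_of_dvd_mul_left (by rw [show 2 ^ 3 * 3 ^ 3 = 216 by norm_num]; exact h216)
    obtain ⟨j, -, hj⟩ := (Nat.dvd_prime_pow Nat.prime_three).1 h27
    have h1 : IsPGroup 3 (zpowers g) := IsPGroup.of_card (n := j) (by rw [Nat.card_zpowers, hj])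
    obtain ⟨P, hP⟩ := h1.exists_le_sylow
    obtain ⟨Q⟩ : Nonempty (Sylow 3 H) := inferInstance
    have hQ : Nat.card Q = 27 := by
      have h3 : Nat.card H = 2 * 3 ^ 3 := by rw [hω]; norm_num
      have h4 := PSqQR.card_sylow_of_card_eq h3 (by norm_num) Q
      rw [h4]; norm_num
    have hQ' : Nat.card ((Q : Subgroup H).map H.subtype) = 3 ^ (Nat.card G).factorization 3 := by
      rw [Subgroup.card_map_of_injective H.subtype_injective]
      have h5 : (Nat.card G).factorization 3 = 3 := by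
        rw [hG, show 1512 = 3 ^ 3 * 56 by norm_num, Nat.factorization_mul (by norm_num) (by norm_num),
          Nat.prime_three.factorization_pow]
        simp [Nat.factorization_eq_zero_of_not_dvd (show ¬ 3 ∣ 56 by norm_num)]
      rw [h5]
      exact hQ
    let Q' : Sylow 3 G := Sylow.ofCard _ hQ'
    obtain ⟨k, hk⟩ := MulAction.exists_smul_eq G P Q'
    apply hno k
    have h5 : k * g * k⁻¹ ∈ (Q' : Subgroup G) := by
      rw [← hk]
      exact ⟨g, hP (mem_zpowers g), rfl⟩
    obtain ⟨q, -, hq⟩ := h5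
    rw [← hq]
    exact q.2

end

end Cfsg.Agent.H748.Conv
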