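import Cfsg.Agent.H748.Conv.TSimple

/-!
# Groups of order 1512 with a simple normal subgroup of order 504 (helper748)
-/

set_option autoImplicit false
set_option linter.unusedSectionVars false

namespace Cfsg.Agent.H748.Conv

open Subgroup MulAction Cfsg.Agent.SmallSimple

section

variable {G : Type*} [Group G] [Finite G] {T : Subgroup G} [T.Normal] [IsSimpleGroup T]

omit [IsSimpleGroup T] in
theorem index_eq (hG : Nat.card G = 1512) (hT : Nat.card T = 504) : T.index = 3 := by
  have := T.card_mul_index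
  rw [hG, hT] at this
  omega

omit [IsSimpleGroup T] in
theorem mem_of_coprime (hG : Nat.card G = 1512) (hT : Nat.card T = 504) {g : G}
    (h3 : ¬ 3 ∣ orderOf g) : g ∈ T := by
  rw [← QuotientGroup.eq_one_iff, ← orderOf_eq_one_iff]
  have h1 : orderOf (g : G ⧸ T) ∣ 3 := by
    rw [← index_eq hG hT]
    exact orderOf_dvd_natCard _
  have h2 : orderOf (g : G ⧸ T) ∣ orderOf g := orderOf_map_dvd (QuotientGroup.mk' T) g
  rcases (Nat.dvd_prime Nat.prime_three).1 h1 with h | h
  · exact h
  · exact absurd (h ▸ h2) h3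

theorem not_four (hG : Nat.card G = 1512) (hT : Nat.card T = 504) {g : G} (h : 4 ∣ orderOf g) : False := by
  obtain ⟨k, hk⟩ := h
  have h0 : 0 < orderOf g := orderOf_pos g
  have hk0 : k ≠ 0 := by rintro rfl; omega
  have h1 : orderOf (g ^ k) = 4 := by
    rw [orderOf_pow_of_dvd hk0 ⟨4, by rw [hk]; ring⟩, hk]
    exact Nat.mul_div_cancel _ (Nat.pos_of_ne_zero hk0)
  have h2 : g ^ k ∈ T := mem_of_coprime hG hT (by rw [h1]; norm_num)
  have h3 : orderOf (⟨g ^ k, h2⟩ : T) = 4 := by rw [← h1]; exact (Subgroup.orderOf_mk _ _)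
  exact Simple504B.orderOf_ne_four hT _ h3

theorem conj_two (hG : Nat.card G = 1512) (hT : Nat.card T = 504) {u v : G} (hu : orderOf u = 2)
    (hv : orderOf v = 2) : IsConj u v := by
  have h1 : u ∈ T := mem_of_coprime hG hT (by rw [hu]; norm_num)
  have h2 : v ∈ T := mem_of_coprime hG hT (by rw [hv]; norm_num)
  have h3 := inv_conj hT (u := ⟨u, h1⟩) (v := ⟨v, h2⟩) (by rw [Subgroup.orderOf_mk]; exact hu)
    (by rw [Subgroup.orderOf_mk]; exact hv)
  exact MonoidHom.map_isConj T.subtype h3

theorem card_cent_two (hG : Nat.card G = 1512) (hT : Nat.card T = 504) {u : G} (hu : orderOf u = 2) :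
    Nat.card (centralizer ({u} : Set G)) = 24 := by
  have h1 : u ∈ T := mem_of_coprime hG hT (by rw [hu]; norm_num)
  have hu' : orderOf (⟨u, h1⟩ : T) = 2 := by rw [Subgroup.orderOf_mk]; exact hu
  have h2 := card_cent_inv hT hu'
  have h3 := card_inv_le hT
  have h4 : 63 ≤ Nat.card {v : G // IsConj u v} := by
    rw [← h2]
    refine Nat.card_le_card_of_injective
      (fun v => (⟨(v.1 : G), MonoidHom.map_isConj T.subtype v.2⟩ : {v : G // IsConj u v})) ?_
    intro a b hab
    have h5 : (a.1 : G) = b.1 := congrArg (fun z : {v : G // IsConj u v} => z.1) hab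
    exact Subtype.ext (Subtype.ext h5)
  have h5 : Nat.card {v : G // IsConj u v} ≤ 63 := by
    refine le_trans ?_ h3
    have key : ∀ v : {v : G // IsConj u v}, orderOf v.1 = 2 := by
      rintro ⟨v, hv⟩
      obtain ⟨g, hg⟩ := isConj_iff.1 hv
      subst hg
      exact (MulEquiv.orderOf_eq (MulAut.conj g) u).trans hu
    refine Nat.card_le_card_of_injective (fun v =>
      (⟨⟨v.1, mem_of_coprime hG hT (by rw [key]; norm_num)⟩, by
        rw [Subgroup.orderOf_mk]; exact key v⟩ : {u : T // orderOf u = 2})) ?_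
    intro a b hab
    have h6 : a.1 = b.1 := congrArg (fun z : {u : T // orderOf u = 2} => (z.1 : G)) hab
    exact Subtype.ext h6
  have h6 := card_class u
  rw [le_antisymm h5 h4, hG] at h6
  omega

/-- the action on the nine Sylow 2-subgroups is faithful -/
theorem exists_nine (hT : Nat.card T = 504)
    (hC : centralizer (T : Set G) = ⊥) : ∃ f : G →* Equiv.Perm (Sylow 2 T), Function.Injective f := by
  have f2 : Fact (Nat.Prime 2) := ⟨by norm_num⟩
  let f : G →* Equiv.Perm (Sylow 2 T) :=
    (MulAction.toPermHom (MulAut T) (Sylow 2 T)).comp (MulAut.conjNormal : G →* MulAut T)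
  refine ⟨f, ?_⟩
  rw [← MonoidHom.ker_eq_bot_iff]
  have hn : (f.ker.subgroupOf T).Normal := inferInstance
  rcases hn.eq_bot_or_eq_top with h | h
  · rw [eq_bot_iff, ← hC]
    intro k hk
    rw [mem_centralizer_iff]
    intro t ht
    have h1 : Disjoint f.ker T := by
      rw [disjoint_iff, eq_bot_iff]
      rintro z ⟨hz1, hz2⟩
      have h2 : (⟨z, hz2⟩ : T) ∈ f.ker.subgroupOf T := hz1
      rw [h, mem_bot] at h2
      exact congrArg Subtype.val h2
    exact (Subgroup.commute_of_normal_of_disjoint f.ker T inferInstance inferInstance h1 k t hk ht).eq.symm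
  · exfalso
    obtain ⟨t, ht, -, h9⟩ := exists_inv hT
    obtain ⟨P⟩ : Nonempty (Sylow 2 T) := inferInstance
    have h1 : (P : Subgroup T).Normal := by
      constructor
      intro n hn g
      have h2 : g ∈ f.ker.subgroupOf T := by rw [h]; exact mem_top _
      have h3 : f (g : G) = 1 := h2
      have h4 : (MulAut.conjNormal (g : G) : MulAut T) • P = P := by
        have := congrArg (fun σ : Equiv.Perm (Sylow 2 T) => σ P) h3
        exact this
      have h5 : (MulAut.conjNormal (g : G) : MulAut T) n ∈ ((MulAut.conjNormal (g : G) : MulAut T) • P : Sylow 2 T) :=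
        ⟨n, hn, rfl⟩
      rw [h4] at h5
      have h6 : (MulAut.conjNormal (g : G) : MulAut T) n = g * n * g⁻¹ := Subtype.ext rfl
      rwa [h6] at h5
    have h2 := P.card_eq_index_normalizer
    rw [h9] at h2
    have h3 : normalizer ((P : Subgroup T) : Set T) = ⊤ := normalizer_eq_top_iff.2 h1
    have h4 : (normalizer ((P : Subgroup T) : Set T)).index = 9 := h2.symm
    rw [h3, index_top] at h4
    omega

theorem perm_seven {α : Type*} [Fintype α] [DecidableEq α] (hα : Fintype.card α = 9)
    {σ : Equiv.Perm α} (hσ : orderOf σ = 7) : Nat.card (centralizer ({σ} : Set (Equiv.Perm α))) = 14 := by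
  obtain ⟨n, hn⟩ := Equiv.Perm.cycleType_prime_order (σ := σ) (by rw [hσ]; norm_num)
  have h1 := σ.sum_cycleType
  have h2 : σ.support.card ≤ 9 := by rw [← hα]; exact Finset.card_le_univ _
  rw [← h1, hn, Multiset.sum_replicate, hσ, smul_eq_mul] at h2
  have h3 : n = 0 := by omega
  subst h3
  rw [hσ] at hn
  rw [Equiv.Perm.nat_card_centralizer, hn, hα]
  simp

theorem card_cent_seven (hG : Nat.card G = 1512) (hT : Nat.card T = 504)
    (hC : centralizer (T : Set G) = ⊥) {x : G} (hx : orderOf x = 7) :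
    Nat.card (centralizer ({x} : Set G)) = 7 := by
  classical
  obtain ⟨f, hf⟩ := exists_nine hT hC
  have := Fintype.ofFinite (Sylow 2 T)
  obtain ⟨-, -, -, h9⟩ := exists_inv hT
  have h1 : Nat.card (centralizer ({f x} : Set (Equiv.Perm (Sylow 2 T)))) = 14 :=
    perm_seven (by rw [← Nat.card_eq_fintype_card, h9]) (by rw [orderOf_injective f hf, hx])
  have h2 : Nat.card (centralizer ({x} : Set G)) ∣ 14 := by
    rw [← h1]
    have h3 : (centralizer ({x} : Set G)).map f ≤ centralizer ({f x} : Set (Equiv.Perm (Sylow 2 T))) := by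
      rintro _ ⟨g, hg, rfl⟩
      have hg' : g * x = x * g := mem_centralizer_singleton_iff.1 hg
      rw [mem_centralizer_singleton_iff, ← map_mul, ← map_mul, hg']
    have h4 := Subgroup.card_dvd_of_le h3
    rwa [Subgroup.card_map_of_injective hf] at h4
  have h7 : 7 ∣ Nat.card (centralizer ({x} : Set G)) := by
    have h3 : zpowers x ≤ centralizer ({x} : Set G) := by
      rw [zpowers_le, mem_centralizer_singleton_iff]
    have h4 := Subgroup.card_dvd_of_le h3
    rwa [Nat.card_zpowers, hx] at h4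
  have hn2 : ¬ 2 ∣ Nat.card (centralizer ({x} : Set G)) := by
    intro h
    have f2 : Fact (Nat.Prime 2) := ⟨by norm_num⟩
    obtain ⟨u, hu⟩ := exists_prime_orderOf_dvd_card' 2 h
    have hu2 : orderOf (u : G) = 2 := by rw [Subgroup.orderOf_coe, hu]
    have h3 : (u : G) ∈ T := mem_of_coprime hG hT (by rw [hu2]; norm_num)
    have h4 : x ∈ T := mem_of_coprime hG hT (by rw [hx]; norm_num)
    have h5 : (u : G) * x = x * u := mem_centralizer_singleton_iff.1 u.2
    have h6 := Simple504.orderOf_dvd_seven hT (y := ⟨x, h4⟩) (u := ⟨u, h3⟩)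
      (by rw [Subgroup.orderOf_mk]; exact hx) (Subtype.ext h5.symm)
    rw [Subgroup.orderOf_mk, hu2] at h6
    omega
  obtain ⟨k, hk⟩ := h7
  rw [hk] at h2 hn2 ⊢
  have h3 : k ∣ 2 := Nat.dvd_of_mul_dvd_mul_left (k := 7) (by norm_num) h2
  rcases (Nat.dvd_prime Nat.prime_two).1 h3 with h | h
  · rw [h]
  · rw [h] at hn2
    omega

theorem orderOf_of_seven (hG : Nat.card G = 1512) (hT : Nat.card T = 504)
    (hC : centralizer (T : Set G) = ⊥) {g : G} (h : 7 ∣ orderOf g) : orderOf g = 7 := by
  obtain ⟨k, hk⟩ := h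
  have h0 : 0 < orderOf g := orderOf_pos g
  have hk0 : k ≠ 0 := by rintro rfl; omega
  have h1 : orderOf (g ^ k) = 7 := by
    rw [orderOf_pow_of_dvd hk0 ⟨7, by rw [hk]; ring⟩, hk]
    exact Nat.mul_div_cancel _ (Nat.pos_of_ne_zero hk0)
  have h2 : g ∈ centralizer ({g ^ k} : Set G) := by
    rw [mem_centralizer_singleton_iff, ← pow_succ, ← pow_succ']
  have h3 := Subgroup.orderOf_dvd_natCard _ h2
  rw [card_cent_seven hG hT hC h1, hk] at h3
  have h4 : k ∣ 1 := Nat.dvd_of_mul_dvd_mul_left (k := 7) (by norm_num) (by rwa [mul_one])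
  rw [hk, Nat.dvd_one.1 h4]

theorem conj_seven (hG : Nat.card G = 1512) (hT : Nat.card T = 504)
    (hC : centralizer (T : Set G) = ⊥) {x y : G} (hx : orderOf x = 7) (hy : orderOf y = 7) :
    IsConj x y := by
  refine isConj_of_card hx ?_ hy
  rw [card_cent_seven hG hT hC hx, hG]
  have h1 := card_seven_le hT
  have h2 : Nat.card {u : G // orderOf u = 7} ≤ Nat.card {u : T // orderOf u = 7} := by
    refine Nat.card_le_card_of_injective (fun v =>
      (⟨⟨v.1, mem_of_coprime hG hT (by rw [v.2]; norm_num)⟩, by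
        rw [Subgroup.orderOf_mk]; exact v.2⟩ : {u : T // orderOf u = 7})) ?_
    intro a b hab
    have h6 : a.1 = b.1 := congrArg (fun z : {u : T // orderOf u = 7} => (z.1 : G)) hab
    exact Subtype.ext h6
  omega

/-- an involution of a subgroup of order 54 commutes with an element of order 3 -/
theorem exists_three (hG : Nat.card G = 1512) (hT : Nat.card T = 504) (H : Subgroup G)
    (hH : Nat.card H = 54) : ∃ u ∈ H, ∃ s ∈ H, orderOf u = 2 ∧ orderOf s = 3 ∧ u * s = s * u := by
  have f2 : Fact (Nat.Prime 2) := ⟨by norm_num⟩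
  have f3 : Fact (Nat.Prime 3) := ⟨by norm_num⟩
  obtain ⟨u, hu⟩ := exists_prime_orderOf_dvd_card' (G := H) 2 (by rw [hH]; norm_num)
  obtain ⟨Q⟩ : Nonempty (Sylow 3 H) := inferInstance
  have hQ : Nat.card Q = 27 := by
    have h3 : Nat.card H = 2 * 3 ^ 3 := by rw [hH]; norm_num
    have h4 := PSqQR.card_sylow_of_card_eq h3 (by norm_num) Q
    rw [h4]; norm_num
  have hQ' : Nat.card (Q : Subgroup H) = 27 := hQ
  have hidx : (Q : Subgroup H).index = 2 := by
    have h1 := (Q : Subgroup H).card_mul_index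
    rw [hQ', hH] at h1
    omega
  have hQn : (Q : Subgroup H).Normal := Subgroup.normal_of_index_eq_two hidx
  have hu2 : orderOf (u : G) = 2 := by rw [Subgroup.orderOf_coe, hu]
  have huT : (u : G) ∈ T := mem_of_coprime hG hT (by rw [hu2]; norm_num)
  by_cases hex : ∃ q ∈ (Q : Subgroup H), q ≠ 1 ∧ u * q = q * u
  · obtain ⟨q, hq, hq1, hqu⟩ := hex
    obtain ⟨k, hk⟩ := (Q.isPGroup' : IsPGroup 3 (Q : Subgroup H)) ⟨q, hq⟩
    have h1 : orderOf q ∣ 3 ^ k := by
      rw [orderOf_dvd_iff_pow_eq_one]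
      exact congrArg Subtype.val hk
    have h2 : 3 ∣ orderOf q := by
      obtain ⟨j, -, hj⟩ := (Nat.dvd_prime_pow Nat.prime_three).1 h1
      rcases Nat.eq_zero_or_pos j with h0 | h0
      · rw [h0, pow_zero, orderOf_eq_one_iff] at hj
        exact absurd hj hq1
      · rw [hj]; exact dvd_pow_self 3 (by omega)
    obtain ⟨j, hj⟩ := h2
    have h0 : 0 < orderOf q := orderOf_pos q
    have hj0 : j ≠ 0 := by rintro rfl; omega
    have h3 : orderOf (q ^ j) = 3 := by
      rw [orderOf_pow_of_dvd hj0 ⟨3, by rw [hj]; ring⟩, hj]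
      exact Nat.mul_div_cancel _ (Nat.pos_of_ne_zero hj0)
    refine ⟨u, u.2, (q ^ j : H), (q ^ j).2, hu2, by rw [Subgroup.orderOf_coe, h3], ?_⟩
    have h4 : u * q ^ j = q ^ j * u := ((show Commute u q from hqu).pow_right j).eq
    exact congrArg Subtype.val h4
  · exfalso
    push Not at hex
    -- the commutator map
    let W : Subgroup H := (Q : Subgroup H) ⊓ T.subgroupOf H
    have hmem : ∀ q : (Q : Subgroup H), u * q * u⁻¹ * (q : H)⁻¹ ∈ W := by
      intro q
      refine Subgroup.mem_inf.2 ⟨(Q : Subgroup H).mul_mem (hQn.conj_mem _ q.2 u) ((Q : Subgroup H).inv_mem q.2), ?_⟩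
      rw [mem_subgroupOf]
      have hTn : T.Normal := inferInstance
      have h1 : (u : G) * ((q : H) * (u : G)⁻¹ * ((q : H) : G)⁻¹) ∈ T :=
        T.mul_mem huT (hTn.conj_mem _ (T.inv_mem huT) _)
      convert h1 using 1
      simp [mul_assoc]
    have hinj : Function.Injective (fun q : (Q : Subgroup H) => (⟨_, hmem q⟩ : W)) := by
      intro a b hab
      have h1 : u * a * u⁻¹ * (a : H)⁻¹ = u * b * u⁻¹ * (b : H)⁻¹ := congrArg Subtype.val hab
      have h2 : (b : H)⁻¹ * a = 1 := by
        by_contra hne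
        apply hex ((b : H)⁻¹ * a) ((Q : Subgroup H).mul_mem ((Q : Subgroup H).inv_mem b.2) a.2) hne
        have h3 : (a : H) * u⁻¹ * (a : H)⁻¹ = b * u⁻¹ * (b : H)⁻¹ := by
          have := congrArg (fun z => u⁻¹ * z) h1
          simpa [mul_assoc] using this
        have h4 : (a : H) * u * (a : H)⁻¹ = b * u * (b : H)⁻¹ := by
          have := congrArg (fun z => z⁻¹) h3
          simpa [mul_assoc] using this
        calc u * ((b : H)⁻¹ * a) = (b : H)⁻¹ * (b * u * (b : H)⁻¹) * a := by group
          _ = (b : H)⁻¹ * (a * u * (a : H)⁻¹) * a := by rw [h4]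
          _ = (b : H)⁻¹ * a * u := by group
      exact Subtype.ext (inv_mul_eq_one.1 h2).symm
    have h1 : 27 ≤ Nat.card W := by
      rw [← hQ']
      exact Nat.card_le_card_of_injective _ hinj
    have h2 : Nat.card W ∣ 27 := by
      rw [← hQ']
      exact Subgroup.card_dvd_of_le inf_le_left
    have h3 : Nat.card W ∣ 504 := by
      rw [← hT]
      have h4 : Nat.card W ∣ Nat.card (T.subgroupOf H) := Subgroup.card_dvd_of_le inf_le_right
      refine h4.trans ?_
      let φ : T.subgroupOf H →* T := MonoidHom.mk' (fun x => (⟨((x : H) : G), x.2⟩ : T)) (fun _ _ => rfl)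
      refine Subgroup.card_dvd_of_injective φ ?_
      intro a b hab
      have h5 : ((a : H) : G) = ((b : H) : G) := congrArg (fun z : T => (z : G)) hab
      exact Subtype.ext (Subtype.ext h5)
    have h4 : Nat.card W = 27 := Nat.dvd_antisymm h2 (by
      have := Nat.le_of_dvd (by norm_num) h2
      have h5 : Nat.card W = 27 := by omega
      rw [h5])
    rw [h4] at h3
    omega

end

end Cfsg.Agent.H748.Conv
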