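import Cfsg.Agent.H748.Conv.Base
import Cfsg.Agent.H748.Conv.Der
import Cfsg.Agent.H748.Conv.AFive
import Cfsg.Agent.S0495
import Cfsg.Agent.S0813
import Cfsg.Agent.S0265
import Cfsg.Agent.S0242
import Cfsg.Agent.S0243

/-!
# The converse for S3500 (helper748)
-/

set_option autoImplicit false

namespace Cfsg.Agent.H748.Conv

open Subgroup MulAction

section

theorem not_dvd_pow {a b n : ℕ} (ha : a.Prime) (hb : b.Prime) (hab : a ≠ b) (h1 : a ∣ n) (h2 : b ∣ n) :
    ∀ p k : ℕ, p.Prime → ¬ n ∣ p ^ k := by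
  intro p k hp h
  have h3 := (Nat.prime_dvd_prime_iff_eq ha hp).1 (ha.dvd_of_dvd_pow (h1.trans h))
  have h4 := (Nat.prime_dvd_prime_iff_eq hb hp).1 (hb.dvd_of_dvd_pow (h2.trans h))
  exact hab (h3.trans h4.symm)

theorem card_mulAut {F : Type*} [Field F] [Fintype F] (hp : (Fintype.card F).Prime) (h5 : 5 ≤ Fintype.card F) :
    Nat.card (MulAut (Matrix.ProjectiveSpecialLinearGroup (Fin 2) F)) =
      2 * Nat.card (Matrix.ProjectiveSpecialLinearGroup (Fin 2) F) := by
  have : Fact (Fintype.card F).Prime := ⟨hp⟩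
  have h1 := Cfsg.Agent.S0813.result (F := F) (Fintype.card F) 1 le_rfl (pow_one _).symm 2 le_rfl
    (fun _ => by rw [pow_one]; omega)
  rw [if_pos rfl, one_mul, one_mul, Cfsg.Agent.S0265.result] at h1
  rw [h1]
  have h2 := Cfsg.Agent.S0242.result (F := F) rfl 2 (by norm_num)
  have h3 := Cfsg.Agent.S0243.result (F := F) rfl 2 le_rfl
  rw [← h2] at h3
  have hodd : Odd (Fintype.card F) := hp.odd_of_ne_two (by omega)
  have h4 : Nat.gcd 2 (Fintype.card F - 1) = 2 := by
    apply Nat.gcd_eq_left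
    obtain ⟨k, hk⟩ := hodd
    omega
  rw [h4] at h3
  have h5 : 0 < Fintype.card F - 1 := by omega
  apply Nat.eq_of_mul_eq_mul_left h5
  rw [← h3]
  ring

theorem card_stab {G : Type*} [Group G] [Finite G] {Ω : Type*} [Fintype Ω] [MulAction G Ω]
    (hprim : IsPreprimitive G Ω) {n m : ℕ} (h1 : Fintype.card Ω = n) (h2 : Nat.card G = n * m) (hn : 0 < n)
    (ω : Ω) : Nat.card (stabilizer G ω) = m := by
  have h3 := hprim.toIsPretransitive
  have h4 := MulAction.index_stabilizer_of_transitive G ω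
  have h5 := (stabilizer G ω).card_mul_index
  rw [h4, Nat.card_eq_fintype_card (α := Ω), h1, h2, mul_comm] at h5
  exact Nat.eq_of_mul_eq_mul_left hn h5

theorem cent_bot {G : Type*} [Group G] [Finite G] {Ω : Type*} [Finite Ω] [MulAction G Ω] [FaithfulSMul G Ω]
    (hprim : IsPreprimitive G Ω) (T : Subgroup G) [T.Normal] [IsSimpleGroup T] (hna : ¬ IsMulCommutative T)
    (h : ¬ Nat.card Ω ∣ T.index) : centralizer (T : Set G) = ⊥ := by
  by_contra hne
  apply h
  refine (card_dvd hprim (centralizer (T : Set G)) hne).trans ?_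
  let φ : centralizer (T : Set G) →* G ⧸ T := (QuotientGroup.mk' T).comp (centralizer (T : Set G)).subtype
  refine Subgroup.card_dvd_of_injective φ ?_
  rw [← MonoidHom.ker_eq_bot_iff, eq_bot_iff]
  intro c hc
  have h1 : (c : G) ∈ T := (QuotientGroup.eq_one_iff _).1 hc
  have h2 : (⟨c, h1⟩ : T) ∈ center T := by
    rw [mem_center_iff]
    intro t
    exact Subtype.ext (mem_centralizer_iff.1 c.2 t t.2)
  have h3 : center T = ⊥ := by
    rcases (inferInstance : (center T).Normal).eq_bot_or_eq_top with h4 | h4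
    · exact h4
    · exfalso
      apply hna
      exact ⟨⟨fun a b => (mem_center_iff.1 (by rw [h4]; exact mem_top a : a ∈ center T) b).symm⟩⟩
  rw [h3, mem_bot] at h2
  rw [mem_bot]
  have h4 : (c : G) = 1 := congrArg (fun z : T => (z : G)) h2
  exact Subtype.ext h4

theorem conv_six {G : Type*} [Group G] [Finite G] {Ω : Type*} [Fintype Ω] [MulAction G Ω] [FaithfulSMul G Ω]
    (hprim : MulAction.IsPreprimitive G Ω) (h1 : Fintype.card Ω = 6) (h2 : Nat.card G = 60) :
    (∃ x : G, ∀ ω : Ω, x • ω ≠ ω) ∧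
      ∀ x y : G, (∀ ω : Ω, x • ω ≠ ω) → (∀ ω : Ω, y • ω ≠ ω) → ∃ g : G, g * x * g⁻¹ = y := by
  have f2 : Fact (Nat.Prime 2) := ⟨by norm_num⟩
  have f3 : Fact (Nat.Prime 3) := ⟨by norm_num⟩
  have f5 : Fact (Nat.Prime 5) := ⟨by norm_num⟩
  have hst := card_stab hprim (m := 10) h1 (by rw [h2]) (by norm_num)
  have hNE : Nonempty Ω := by
    rw [← Fintype.card_pos_iff, h1]; norm_num
  have ω : Ω := hNE.some
  obtain ⟨T, hTn, hTs, hTna⟩ := exists_simple (Ω := Ω) hprim
    (not_dvd_pow Nat.prime_two Nat.prime_three (by norm_num)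
      (by rw [Nat.card_eq_fintype_card, h1]; norm_num) (by rw [Nat.card_eq_fintype_card, h1]; norm_num))
    (by rw [h2]; norm_num) (by rw [h2]; norm_num)
  have hTd : Nat.card T ∣ 60 := by rw [← h2]; exact T.card_subgroup_dvd_card
  have hle := Nat.le_of_dvd (by norm_num) hTd
  have hT60 : Nat.card T = 60 := by
    rcases H424.SmallIso.orders hTna (by omega) with h | h | h | h | h | h | h | h | h | h | h <;> omega
  have hTtop : T = ⊤ := Subgroup.eq_top_of_card_eq T (by rw [hT60, h2])
  have hGs : IsSimpleGroup G := by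
    have e : T ≃* G := (MulEquiv.subgroupCongr hTtop).trans Subgroup.topEquiv
    exact e.symm.isSimpleGroup
  obtain ⟨e⟩ := S0494.result h2
  have hne : ∀ {x : G}, (∀ ω : Ω, x • ω ≠ ω) → x ≠ 1 := by
    rintro x hx rfl
    exact hx ω (one_smul G ω)
  have h3 : ∀ {x : G}, (∀ ω : Ω, x • ω ≠ ω) → (e x) ^ 3 = 1 := by
    intro x hx
    have hx1 : e x ≠ 1 := by
      intro h
      exact hne hx (by rw [← map_one e] at h; exact e.injective h)
    have hfix : ∀ {g : AFive.A} {v : G}, v ∈ stabilizer G ω → g * e x * g⁻¹ = e v → False := by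
      intro g v hv hgv
      have h4 : e.symm g * x * (e.symm g)⁻¹ = v := by
        apply e.injective
        rw [map_mul, map_mul, map_inv, e.apply_symm_apply, hgv]
      obtain ⟨ω', hω'⟩ := fix_of_conj (k := e.symm g) (g := x) (ω := ω) (by rw [h4]; exact hv)
      exact hx ω' hω'
    rcases AFive.orders (e x) with h | h | h
    · exfalso
      obtain ⟨u, hu⟩ := exists_prime_orderOf_dvd_card' (G := stabilizer G ω) 2 (by rw [hst]; norm_num)
      have hu' : orderOf (e (u : G)) = 2 := by rw [MulEquiv.orderOf_eq, Subgroup.orderOf_coe, hu]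
      obtain ⟨g, hg⟩ := AFive.two (e x) hx1 h (e (u : G))
        (by intro h5; rw [h5, orderOf_one] at hu'; omega) (orderOf_dvd_iff_pow_eq_one.1 hu'.dvd)
      exact hfix u.2 hg
    · exact h
    · exfalso
      obtain ⟨u, hu⟩ := exists_prime_orderOf_dvd_card' (G := stabilizer G ω) 5 (by rw [hst]; norm_num)
      have hu' : orderOf (e (u : G)) = 5 := by rw [MulEquiv.orderOf_eq, Subgroup.orderOf_coe, hu]
      obtain ⟨g, hg | hg⟩ := AFive.five (e x) hx1 h (e (u : G))
        (by intro h5; rw [h5, orderOf_one] at hu'; omega) (orderOf_dvd_iff_pow_eq_one.1 hu'.dvd)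
      · exact hfix u.2 hg
      · rw [← map_pow] at hg
        exact hfix ((stabilizer G ω).pow_mem u.2 2) hg
  constructor
  · obtain ⟨x, hx⟩ := exists_prime_orderOf_dvd_card' (G := G) 3 (by rw [h2]; norm_num)
    refine ⟨x, ?_⟩
    intro ω' hω'
    have h4 : x ∈ stabilizer G ω' := hω'
    have h5 := Subgroup.orderOf_dvd_natCard _ h4
    rw [hst, hx] at h5
    omega
  · intro x y hx hy
    obtain ⟨g, hg⟩ := AFive.three (e x) (fun h => hne hx (by rw [← map_one e] at h; exact e.injective h)) (h3 hx)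
      (e y) (fun h => hne hy (by rw [← map_one e] at h; exact e.injective h)) (h3 hy)
    refine ⟨e.symm g, ?_⟩
    apply e.injective
    rw [map_mul, map_mul, map_inv, e.apply_symm_apply, hg]

theorem conv_28 {G : Type*} [Group G] [Finite G] {Ω : Type*} [Fintype Ω] [MulAction G Ω] [FaithfulSMul G Ω]
    (hprim : MulAction.IsPreprimitive G Ω) (h1 : Fintype.card Ω = 28) (h2 : Nat.card G = 1512) :
    (∃ x : G, ∀ ω : Ω, x • ω ≠ ω) ∧
      ∀ x y : G, (∀ ω : Ω, x • ω ≠ ω) → (∀ ω : Ω, y • ω ≠ ω) → ∃ g : G, g * x * g⁻¹ = y := by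
  have f7 : Fact (Nat.Prime 7) := ⟨by norm_num⟩
  have hst := card_stab hprim (m := 54) h1 (by rw [h2]) (by norm_num)
  have hNE : Nonempty Ω := by
    rw [← Fintype.card_pos_iff, h1]; norm_num
  have ω : Ω := hNE.some
  obtain ⟨T, hTn, hTs, hTna⟩ := exists_simple (Ω := Ω) hprim
    (not_dvd_pow Nat.prime_two (show Nat.Prime 7 by norm_num) (by norm_num)
      (by rw [Nat.card_eq_fintype_card, h1]; norm_num) (by rw [Nat.card_eq_fintype_card, h1]; norm_num))
    (by rw [h2]; norm_num) (by rw [h2]; norm_num)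
  have hTd : Nat.card T ∣ 1512 := by rw [← h2]; exact T.card_subgroup_dvd_card
  have hle := Nat.le_of_dvd (by norm_num) hTd
  have hidx := T.card_mul_index
  rw [h2] at hidx
  have hcases : Nat.card T = 168 ∨ Nat.card T = 504 := by
    rcases H424.SmallIso.orders hTna (by omega) with h | h | h | h | h | h | h | h | h | h | h <;>
      rw [h] at hTd ⊢ <;> omega
  have hC : centralizer (T : Set G) = ⊥ := by
    apply cent_bot hprim T hTna
    rw [Nat.card_eq_fintype_card, h1]
    rcases hcases with h | h <;> rw [h] at hidx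
    · have : T.index = 9 := by omega
      rw [this]; norm_num
    · have : T.index = 3 := by omega
      rw [this]; norm_num
  have hT : Nat.card T = 504 := by
    rcases hcases with h | h
    · exfalso
      obtain ⟨e⟩ := S0495.result h (F := ZMod 7) (by rw [ZMod.card])
      have h3 : Nat.card (MulAut T) = 336 := by
        rw [Nat.card_congr (MulAut.congr e).toEquiv, card_mulAut (by rw [ZMod.card]; norm_num)
          (by rw [ZMod.card]; norm_num), ← Nat.card_congr e.toEquiv, h]
      have h4 : Nat.card G ∣ Nat.card (MulAut T) := by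
        refine Subgroup.card_dvd_of_injective (MulAut.conjNormal : G →* MulAut T) ?_
        rw [← MonoidHom.ker_eq_bot_iff, eq_bot_iff, ← hC]
        intro g hg
        rw [mem_centralizer_iff]
        intro t ht
        have h5 : (MulAut.conjNormal g : MulAut T) ⟨t, ht⟩ = ⟨t, ht⟩ := by
          rw [MonoidHom.mem_ker.1 hg]; rfl
        have h6 : g * t * g⁻¹ = t := congrArg Subtype.val h5
        exact (mul_inv_eq_iff_eq_mul.1 h6).symm
      rw [h2, h3] at h4
      have := Nat.le_of_dvd (by norm_num) h4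
      omega
    · exact h
  have h7 : ∀ {x : G}, (∀ ω : Ω, x • ω ≠ ω) → orderOf x = 7 := fun hx =>
    orderOf_der h2 hT hC (hst ω) hx
  constructor
  · obtain ⟨x, hx⟩ := exists_prime_orderOf_dvd_card' (G := G) 7 (by rw [h2]; norm_num)
    refine ⟨x, ?_⟩
    intro ω' hω'
    have h4 : x ∈ stabilizer G ω' := hω'
    have h5 := Subgroup.orderOf_dvd_natCard _ h4
    rw [hst, hx] at h5
    omega
  · intro x y hx hy
    exact isConj_iff.1 (conj_seven h2 hT hC (h7 hx) (h7 hy))

end

end Cfsg.Agent.H748.Conv
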