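import Cfsg.Agent.SmallSimple.Simple504C
import Cfsg.Agent.H748.Conv.Cnt

/-!
# Groups of order 1512 with a simple normal subgroup of order 504 (helper748)
-/

set_option autoImplicit false

namespace Cfsg.Agent.H748.Conv

open Subgroup MulAction Cfsg.Agent.SmallSimple

section

variable {T : Type*} [Group T] [Finite T] [IsSimpleGroup T] (hT : Nat.card T = 504)
include hT

theorem exists_inv : ∃ t : T, orderOf t = 2 ∧ Nat.card (centralizer ({t} : Set T)) = 8 ∧
    Nat.card (Sylow 2 T) = 9 := by
  have f2 : Fact (Nat.Prime 2) := ⟨by norm_num⟩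
  obtain ⟨S, t, htS, ht1, hC⟩ := Simple504C.exists_sylow_centralizer hT
  have h1 := Simple504C.mul_self_of_mem hT S htS
  refine ⟨t, orderOf_eq_prime (by rw [pow_two]; exact h1) ht1, ?_, ?_⟩
  · rw [hC]; exact Simple504C.card_sylow_two_eq hT S
  · have h2 := Simple504C.card_normalizer_two hT S t htS ht1 hC
    have h3 : Nat.card (Sylow 2 T) = (normalizer ((S : Subgroup T) : Set T)).index :=
      S.card_eq_index_normalizer
    have h4 := (normalizer ((S : Subgroup T) : Set T)).card_mul_index
    rw [h2, hT] at h4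
    rw [h3]
    omega

theorem card_inv_le : Nat.card {u : T // orderOf u = 2} ≤ 63 := by
  have f2 : Fact (Nat.Prime 2) := ⟨by norm_num⟩
  obtain ⟨t, -, -, h9⟩ := exists_inv hT
  have := card_order_le (G := T) (p := 2) (m := 8) (Simple504C.card_sylow_two_eq hT)
  rw [h9] at this
  omega

theorem inv_conj {u v : T} (hu : orderOf u = 2) (hv : orderOf v = 2) : IsConj u v := by
  obtain ⟨t, ht, h8, h9⟩ := exists_inv hT
  have h1 := card_inv_le hT
  have h2 : Nat.card {u : T // orderOf u = 2} * Nat.card (centralizer ({t} : Set T)) ≤ Nat.card T := by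
    rw [h8, hT]; omega
  exact (isConj_of_card ht h2 hu).symm.trans (isConj_of_card ht h2 hv)

theorem card_cent_inv {u : T} (hu : orderOf u = 2) : Nat.card {v : T // IsConj u v} = 63 := by
  obtain ⟨t, ht, h8, h9⟩ := exists_inv hT
  have h1 := card_class t
  rw [h8, hT] at h1
  have h2 : Nat.card {v : T // IsConj u v} = Nat.card {v : T // IsConj t v} := by
    apply Nat.card_congr
    apply Equiv.subtypeEquivRight
    intro v
    have h3 := inv_conj hT hu ht
    exact ⟨fun h => h3.symm.trans h, fun h => h3.trans h⟩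
  omega

theorem card_seven_le : Nat.card {u : T // orderOf u = 7} ≤ 216 := by
  have f7 : Fact (Nat.Prime 7) := ⟨by norm_num⟩
  have h1 := Simple504.card_sylow_seven hT
  have h2 : ∀ P : Sylow 7 T, Nat.card P = 7 := by
    intro P
    have h3 : Nat.card T = 72 * 7 ^ 1 := by rw [hT]; norm_num
    have h4 := PSqQR.card_sylow_of_card_eq h3 (by norm_num) P
    rw [pow_one] at h4
    exact h4
  have := card_order_le (G := T) (p := 7) (m := 7) h2
  rw [h1] at this
  omega

end

end Cfsg.Agent.H748.Conv
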